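import Groth.Agent.NeronHDLib.NormalExtend
import Groth.Agent.S2102
import Groth.Agent.S6279
import Groth.Agent.FlatLoc6.GeomProp
import Groth.Prelude.Def_EGA4b
import Mathlib.RingTheory.DedekindDomain.IntegralClosure
import Mathlib.RingTheory.Etale.Field
import Mathlib.Algebra.Polynomial.Lifts

/-! # Integral closures in sections of a normal scheme -/

set_option backward.isDefEq.respectTransparency false
set_option backward.isDefEq.respectTransparency.types false

universe u

open CategoryTheory CategoryTheory.Limits AlgebraicGeometry TopologicalSpace TensorProduct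

namespace Groth.Agent.NeronHDLib

theorem isNormalRing_of_isIntegrallyClosed (R : Type u) [CommRing R] [IsDomain R] [IsIntegrallyClosed R] :
    EGA4.IsNormalRing R := fun p _ =>
  ⟨inferInstance, isIntegrallyClosed_of_isLocalization _ p.primeCompl
    (Ideal.primeCompl_le_nonZeroDivisors p)⟩

set_option backward.isDefEq.respectTransparency true in
set_option backward.isDefEq.respectTransparency.types true in
/-- A subdomain integrally closed in an integrally closed domain is integrally closed. -/
theorem isIntegrallyClosed_of_injective {D B : Type u} [CommRing D] [IsDomain D] [CommRing B] [IsDomain B]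
    [IsIntegrallyClosed B] [Algebra D B] (hinj : Function.Injective (algebraMap D B))
    (hD : ∀ b : B, _root_.IsIntegral D b → ∃ d, algebraMap D B d = b) : IsIntegrallyClosed D := by
  let g : D →+* FractionRing B := (algebraMap B (FractionRing B)).comp (algebraMap D B)
  have hg : Function.Injective g :=
    (IsFractionRing.injective B (FractionRing B)).comp hinj
  let φ : FractionRing D →+* FractionRing B := IsFractionRing.lift hg
  have hφ : φ.comp (algebraMap D (FractionRing D)) = g := IsLocalization.lift_comp _
  refine (isIntegrallyClosed_iff (FractionRing D)).2 fun {z} hz => ?_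
  obtain ⟨q, hq, hqz⟩ := hz
  have h1 : q.eval₂ g (φ z) = 0 := by
    rw [← hφ, ← Polynomial.hom_eval₂, hqz, map_zero]
  have hint : _root_.IsIntegral B (φ z) :=
    ⟨q.map (algebraMap D B), hq.map _, by rw [Polynomial.eval₂_map]; exact h1⟩
  obtain ⟨b, hb⟩ := IsIntegrallyClosed.isIntegral_iff.1 hint
  have hbint : _root_.IsIntegral D b := by
    refine ⟨q, hq, IsFractionRing.injective B (FractionRing B) ?_⟩
    rw [map_zero, Polynomial.hom_eval₂, hb]
    exact h1
  obtain ⟨d, rfl⟩ := hD b hbint
  exact ⟨d, φ.injective ((RingHom.congr_fun hφ d).trans hb)⟩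

/-- A quasi-compact open of a locally Noetherian normal scheme is a finite disjoint union of
integral opens. -/
theorem exists_integral_decomposition {X : Scheme.{u}} [IsLocallyNoetherian X]
    (hX : Pi1.IsNormalScheme X) (V : X.Opens) (hV : IsCompact (V : Set X)) :
    ∃ (I : Type u) (_ : Finite I) (W : I → X.Opens), (∀ i, W i ≤ V) ∧
      (∀ i, AlgebraicGeometry.IsIntegral (W i).toScheme) ∧ V ≤ ⨆ i, W i ∧
        Pairwise fun i j => Disjoint (W i) (W j) := by
  classical
  have : AlgebraicGeometry.IsReduced X := isReduced_of_isNormalScheme hX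
  choose W hpW hW hst using fun p : V => WeilExt.exists_integral_component (fun y => (hX y).1) p.1
  let W' : V → X.Opens := fun p => W p ⊓ V
  have hW' : ∀ p, AlgebraicGeometry.IsIntegral (W' p).toScheme := fun p => by
    have := hW p
    have : Nonempty (W' p).toScheme := ⟨⟨p.1, hpW p, p.2⟩⟩
    exact isIntegral_of_isOpenImmersion (X.homOfLE (inf_le_left : W' p ≤ W p))
  have hgen : ∀ p, ∀ r ∈ W' p, (W' p).ι (genericPoint (W' p).toScheme) ⤳ r := fun p r hr => by
    have := hW' p
    exact (genericPoint_specializes (α := ↥(W' p).toScheme) ⟨r, hr⟩).map (W' p).ι.continuous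
  have hkey : ∀ p p' (q : X), q ∈ W' p → q ∈ W' p' → W' p ≤ W' p' := by
    intro p p' q hq hq' r hr
    exact ⟨hst p' _ r ((hgen p q hq).mem_open (W p').2 hq'.1) (hgen p r hr), hr.2⟩
  obtain ⟨t, ht⟩ := hV.elim_finite_subcover (fun p : V => (W' p : Set X)) (fun p => (W' p).2)
    fun q hq => Set.mem_iUnion.2 ⟨⟨q, hq⟩, hpW _, hq⟩
  refine ⟨↥(t.image W'), inferInstance, fun i => i.1, ?_, ?_, ?_, ?_⟩
  · rintro ⟨_, hi⟩
    obtain ⟨p, -, rfl⟩ := Finset.mem_image.1 hi
    exact inf_le_right
  · rintro ⟨_, hi⟩
    obtain ⟨p, -, rfl⟩ := Finset.mem_image.1 hi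
    exact hW' p
  · intro q hq
    obtain ⟨p, hp, hqp⟩ := Set.mem_iUnion₂.1 (ht hq)
    exact Opens.mem_iSup.2 ⟨⟨W' p, Finset.mem_image_of_mem _ hp⟩, hqp⟩
  · rintro ⟨_, hi⟩ ⟨_, hj⟩ hne
    obtain ⟨p, -, rfl⟩ := Finset.mem_image.1 hi
    obtain ⟨p', -, rfl⟩ := Finset.mem_image.1 hj
    rw [disjoint_iff, eq_bot_iff]
    intro q hq
    exact hne (Subtype.ext (le_antisymm (hkey p p' q hq.1 hq.2) (hkey p' p q hq.2 hq.1)))

/-- The sections of an integral normal open form an integrally closed domain. -/
theorem isIntegrallyClosed_sections {X : Scheme.{u}} (hX : Pi1.IsNormalScheme X) (W : X.Opens)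
    [AlgebraicGeometry.IsIntegral W.toScheme] : IsIntegrallyClosed Γ(X, W) := by
  have := S2102.result W.toScheme (isNormalScheme_opens hX W)
  exact IsIntegrallyClosed.of_equiv W.topIso.commRingCatIsoToRingEquiv

/-- An integrally closed subring of the sections of a normal locally Noetherian scheme over a
quasi-compact open is normal. -/
theorem isNormalRing_of_isIntegrallyClosedIn {X : Scheme.{u}} [IsLocallyNoetherian X]
    (hX : Pi1.IsNormalScheme X) (V : X.Opens) (hV : IsCompact (V : Set X)) (C : Subring Γ(X, V))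
    (hC : ∀ b : Γ(X, V), _root_.IsIntegral C b → b ∈ C) : EGA4.IsNormalRing C := by
  classical
  obtain ⟨I, _, W, hWV, hW, hcov, hdis⟩ := exists_integral_decomposition hX V hV
  let π : ∀ i, Γ(X, V) →+* Γ(X, W i) := fun i => (X.presheaf.map (homOfLE (hWV i)).op).hom
  have hext : ∀ a b : Γ(X, V), (∀ i, π i a = π i b) → a = b := fun a b h =>
    X.sheaf.eq_of_locally_eq' W V (fun i => homOfLE (hWV i)) hcov a b h
  have hglue : ∀ x : ∀ i, Γ(X, W i), ∃ a : Γ(X, V), ∀ i, π i a = x i := by
    intro x
    obtain ⟨a, ha, -⟩ := X.sheaf.existsUnique_gluing' W V (fun i => homOfLE (hWV i)) hcov x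
      (fun i j => by
        rcases eq_or_ne i j with rfl | hne
        · rfl
        · have hb : W i ⊓ W j = ⊥ := disjoint_iff.1 (hdis hne)
          have : Subsingleton Γ(X, W i ⊓ W j) := by rw [hb]; infer_instance
          exact this.elim _ _)
    exact ⟨a, ha⟩
  have hne : ∀ i, Nonempty (W i) := fun i =>
    have := hW i
    ⟨genericPoint (W i).toScheme⟩
  have hdom : ∀ i, IsDomain Γ(X, W i) := fun i => by
    have := hW i
    exact (W i).topIso.commRingCatIsoToRingEquiv.symm.toMulEquiv.isDomain _
  let D : ∀ i, Subring Γ(X, W i) := fun i => C.map (π i)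
  have hlift : ∀ i (x : Γ(X, W i)), _root_.IsIntegral (D i) x →
      ∃ a ∈ C, π i a = x ∧ ∀ j, j ≠ i → π j a = 0 := by
    rintro i x ⟨p, hp, hpx⟩
    let r : C →+* D i := ((π i).comp C.subtype).codRestrict (D i) fun c => ⟨c.1, c.2, rfl⟩
    have hr : Function.Surjective r := by
      rintro ⟨_, c, hc, rfl⟩
      exact ⟨⟨c, hc⟩, rfl⟩
    obtain ⟨p', hp', -, hp'm⟩ := Polynomial.lifts_and_degree_eq_and_monic
      (Polynomial.mem_lifts p |>.2 (Polynomial.map_surjective r hr p)) hp
    obtain ⟨a, ha⟩ := hglue (Function.update (fun _ => 0) i x)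
    have hai : π i a = x := by rw [ha, Function.update_self]
    have haj : ∀ j, j ≠ i → π j a = 0 := fun j hj => by rw [ha, Function.update_of_ne hj]
    refine ⟨a, hC a ⟨Polynomial.X * p', Polynomial.monic_X.mul hp'm, hext _ _ fun j => ?_⟩, hai, haj⟩
    rw [Polynomial.eval₂_mul, Polynomial.eval₂_X, map_mul, map_zero]
    rcases eq_or_ne j i with rfl | hj
    · rw [hai, Polynomial.hom_eval₂, hai]
      rw [← hp', Polynomial.eval₂_map] at hpx
      rw [show (π j).comp (algebraMap C Γ(X, V)) = (algebraMap (D j) Γ(X, W j)).comp r from rfl,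
        hpx, mul_zero]
    · rw [haj j hj, zero_mul]
  let e : C →+* ∀ i, D i :=
    Pi.ringHom fun i => ((π i).comp C.subtype).codRestrict (D i) fun c => ⟨c.1, c.2, rfl⟩
  have he : Function.Bijective e := by
    refine ⟨fun a b h => Subtype.ext (hext _ _ fun i => congrArg Subtype.val (congrFun h i)),
      fun y => ?_⟩
    choose a haC hai haj using fun i => hlift i (y i : Γ(X, W i))
      (isIntegral_algebraMap (R := D i) (A := Γ(X, W i)) (x := y i))
    cases nonempty_fintype I
    refine ⟨⟨∑ i, a i, sum_mem fun i _ => haC i⟩, funext fun i => Subtype.ext ?_⟩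
    show π i (∑ j, a j) = (y i : Γ(X, W i))
    rw [map_sum, Finset.sum_eq_single i (fun j _ hj => haj j i hj.symm)
      (fun h => absurd (Finset.mem_univ i) h), hai]
  refine FlatLoc6.isNormalRing_of_ringEquiv (RingEquiv.ofBijective e he).symm ?_
  refine S6279.result (fun i => D i) fun i => ?_
  have := hW i
  have := hdom i
  have : IsIntegrallyClosed Γ(X, W i) := isIntegrallyClosed_sections hX (W i)
  have : IsIntegrallyClosed (D i) :=
    isIntegrallyClosed_of_injective (D := D i) (B := Γ(X, W i)) Subtype.val_injective fun b hb => by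
      obtain ⟨a, haC, hai, -⟩ := hlift i b hb
      exact ⟨⟨b, a, haC, hai⟩, rfl⟩
  exact isNormalRing_of_isIntegrallyClosed (D i)

/-- The integral closure of a normal Noetherian domain in an etale algebra is finite. -/
theorem finite_integralClosure_etale (A E : Type u) [CommRing A] [CommRing E] [Algebra A E]
    [IsDomain A] [IsIntegrallyClosed A] [IsNoetherianRing A] [Algebra.Etale A E] :
    Module.Finite A (integralClosure A E) := by
  let K := FractionRing A
  obtain ⟨I, _, L, _, _, ε, hsep⟩ :=
    (Algebra.FormallyEtale.iff_exists_algEquiv_prod (K := K) (A := K ⊗[A] E)).1 inferInstance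
  have : Module.Finite K (K ⊗[A] E) := Algebra.FormallyUnramified.finite_of_free K (K ⊗[A] E)
  have : ∀ i, Module.Finite K (L i) := fun i =>
    Module.Finite.of_surjective ((Pi.evalAlgHom K L i).comp ε.toAlgHom).toLinearMap
      ((Function.surjective_eval i).comp ε.surjective)
  let _ : ∀ i, Algebra A (L i) := fun i => ((algebraMap K (L i)).comp (algebraMap A K)).toAlgebra
  have : ∀ i, IsScalarTower A K (L i) := fun i => IsScalarTower.of_algebraMap_eq fun _ => rfl
  have : ∀ i, Module.Finite A (integralClosure A (L i)) := fun i => by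
    have := hsep i
    exact IsIntegralClosure.finite A K (L i) (integralClosure A (L i))
  let j : ∀ i, E →ₐ[A] L i := fun i =>
    (((Pi.evalAlgHom K L i).comp ε.toAlgHom).restrictScalars A).comp Algebra.TensorProduct.includeRight
  let Φ : integralClosure A E →ₗ[A] ∀ i, integralClosure A (L i) :=
    LinearMap.pi fun i => (((j i).comp (integralClosure A E).val).codRestrict (integralClosure A (L i))
      fun c => c.2.map (j i)).toLinearMap
  refine Module.Finite.of_injective Φ fun a b h => Subtype.ext ?_
  refine Algebra.TensorProduct.includeRight_injective (A := K) (B := E)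
    (IsFractionRing.injective A K) (ε.injective (funext fun i => ?_))
  exact congrArg Subtype.val (congrFun h i)

end Groth.Agent.NeronHDLib
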