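import Groth.Agent.NeronHDLib.PointSection
import Groth.Agent.AlgSpDec.SchDenseFacts
import Mathlib.AlgebraicGeometry.Morphisms.Immersion
import Mathlib.RingTheory.Jacobson.Ring
import Mathlib.RingTheory.Spectrum.Prime.Jacobson

/-! # Morphisms from a smooth scheme that agree on étale points and on a dense open -/

set_option backward.isDefEq.respectTransparency false
set_option backward.isDefEq.respectTransparency.types false

universe u

open CategoryTheory CategoryTheory.Limits AlgebraicGeometry TensorProduct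

namespace Groth.Agent.NeronHDLib

theorem univ_of_closedPoints_subset {T : Type*} [TopologicalSpace T] [JacobsonSpace T] {s : Set T}
    (hs : IsLocallyClosed s) (h : closedPoints T ⊆ s) : s = Set.univ := by
  obtain ⟨O, C, hO, hC, rfl⟩ := hs
  have hC' : C = Set.univ := Set.univ_subset_iff.1 (closure_closedPoints (X := T) ▸
    hC.closure_subset_iff.2 (h.trans Set.inter_subset_right))
  have hO' : O = Set.univ := by
    by_contra hne
    obtain ⟨x, hx, hx'⟩ := nonempty_inter_closedPoints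
      (Set.nonempty_compl.2 hne) hO.isClosed_compl.isLocallyClosed
    exact hx (h hx').1
  rw [hC', hO', Set.inter_univ]

/-- A locally closed subset of a smooth scheme in characteristic zero containing the images of all
étale points is everything. -/
theorem mem_of_etale_points {k : Type u} [Field k] [CharZero k] {S Z : Scheme.{u}}
    (σ : S ⟶ Spec (CommRingCat.of k)) (f : Z ⟶ S) [Smooth f] (T : Set Z) (hT : IsLocallyClosed T)
    (h : ∀ (S' : Scheme.{u}) (g : S' ⟶ S), Etale g → ∀ h : S' ⟶ Z, h ≫ f = g → Set.range h ⊆ T)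
    (z : Z) : z ∈ T := by
  obtain ⟨U, hU, V, hV, hz, e, hf⟩ := Smooth.exists_isStandardSmooth f z
  let φ := f.appLE U V e
  let : Algebra Γ(S, U) Γ(Z, V) := φ.hom.toAlgebra
  have : Algebra.IsStandardSmooth Γ(S, U) Γ(Z, V) := hf
  let q := (hV.primeIdealOf ⟨z, hz⟩).asIdeal
  let p : Ideal Γ(S, U) := q.comap (algebraMap Γ(S, U) Γ(Z, V))
  let κ := p.ResidueField
  have : CharZero κ := charZero_of_injective_ringHom
    (((algebraMap Γ(S, U) κ).comp (Scheme.Hom.appLE σ ⊤ U le_top).hom).comp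
      (Scheme.ΓSpecIso (CommRingCat.of k)).inv.hom).injective
  let B := κ ⊗[Γ(S, U)] Γ(Z, V)
  let inR : Γ(Z, V) →ₐ[Γ(S, U)] B := Algebra.TensorProduct.includeRight
  let j : Spec (CommRingCat.of B) ⟶ Z :=
    Spec.map (CommRingCat.ofHom inR.toRingHom) ≫ hV.fromSpec
  have : IsJacobsonRing B := isJacobsonRing_of_finiteType (A := κ)
  have hcl : closedPoints (PrimeSpectrum B) ⊆ j ⁻¹' T := by
    intro b hb
    have : b.asIdeal.IsMaximal :=
      (PrimeSpectrum.isClosed_singleton_iff_isMaximal b).1 hb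
    let : Field (B ⧸ b.asIdeal) := Ideal.Quotient.field _
    have : Module.Finite κ (B ⧸ b.asIdeal) := finite_of_finite_type_of_isJacobsonRing κ _
    let emb : B ⧸ b.asIdeal →ₐ[κ] SeparableClosure κ := IsSepClosed.lift
    let a : Γ(Z, V) →ₐ[Γ(S, U)] SeparableClosure κ :=
      (emb.restrictScalars Γ(S, U)).comp ((Ideal.Quotient.mkₐ Γ(S, U) b.asIdeal).comp inR)
    obtain ⟨R', _, _, het, P, hP, α, hα⟩ := exists_etale_through_point Γ(S, U) Γ(Z, V) p a
    let τ : Spec (CommRingCat.of R') ⟶ Spec Γ(S, U) :=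
      Spec.map (CommRingCat.ofHom (algebraMap Γ(S, U) R'))
    have : Etale τ := by
      rw [HasRingHomProperty.Spec_iff (P := @Etale), CommRingCat.hom_ofHom,
        RingHom.etale_algebraMap]
      exact het
    let l : Spec (CommRingCat.of R') ⟶ Z :=
      Spec.map (CommRingCat.ofHom α.toRingHom) ≫ hV.fromSpec
    have hl : l ≫ f = τ ≫ hU.fromSpec := by
      rw [Category.assoc, ← IsAffineOpen.SpecMap_appLE_fromSpec f hU hV e, ← Spec.map_comp_assoc]
      congr 2
      ext r
      exact α.commutes r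
    have hlb : l ⟨P, hP⟩ = j b := by
      rw [Scheme.Hom.comp_apply, Scheme.Hom.comp_apply]
      refine congrArg _ (PrimeSpectrum.ext ?_)
      change P.comap α = b.asIdeal.comap inR
      rw [hα]
      ext x
      rw [RingHom.mem_ker, Ideal.mem_comap]
      change emb (Ideal.Quotient.mk b.asIdeal (inR x)) = 0 ↔ _
      rw [map_eq_zero, Ideal.Quotient.eq_zero_iff_mem]
    show j b ∈ T
    rw [← hlb]
    exact h _ _ inferInstance l hl ⟨_, rfl⟩
  have huniv := univ_of_closedPoints_subset (T := PrimeSpectrum B)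
    (hT.preimage j.continuous) hcl
  let ρ : B →ₐ[Γ(S, U)] q.ResidueField :=
    Algebra.TensorProduct.lift (Ideal.ResidueField.mapₐ p q (Algebra.ofId _ _) rfl)
      (IsScalarTower.toAlgHom Γ(S, U) Γ(Z, V) q.ResidueField) fun _ _ => Commute.all _ _
  have hb₀ : j (⟨RingHom.ker ρ.toRingHom, RingHom.ker_isPrime _⟩ : PrimeSpectrum B) = z := by
    rw [Scheme.Hom.comp_apply]
    refine Eq.trans (congrArg _ (PrimeSpectrum.ext ?_)) (hV.fromSpec_primeIdealOf ⟨z, hz⟩)
    ext x
    change ρ (1 ⊗ₜ x) = 0 ↔ x ∈ q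
    rw [Algebra.TensorProduct.lift_tmul, map_one, one_mul]
    exact Ideal.algebraMap_residueField_eq_zero (I := q)
  rw [← hb₀]
  exact Set.eq_univ_iff_forall.1 huniv _

/-- Uniqueness half of a Néron mapping property from its étale points. -/
theorem hom_ext_of_etale_points {k : Type u} [Field k] [CharZero k] {S : Scheme.{u}}
    (σ : S ⟶ Spec (CommRingCat.of k)) [IsLocallyNoetherian S] (S₀ : S.Opens)
    (hS₀ : CInt.IsSchematicallyDense S₀) {Z N : Scheme.{u}} (f : Z ⟶ S) [Smooth f]
    (q : N ⟶ S) (g g' : Z ⟶ N) (hg : g ≫ q = f) (hg' : g' ≫ q = f)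
    (h₀ : (f ⁻¹ᵁ S₀).ι ≫ g = (f ⁻¹ᵁ S₀).ι ≫ g')
    (het : ∀ (S' : Scheme.{u}) (s : S' ⟶ S), Etale s → ∀ l : S' ⟶ Z, l ≫ f = s →
      l ≫ g = l ≫ g') : g = g' := by
  let ℓ : Z ⟶ pullback q q := pullback.lift g g' (hg.trans hg'.symm)
  let i : pullback ℓ (pullback.diagonal q) ⟶ Z := pullback.fst ℓ (pullback.diagonal q)
  have hfac : ∀ {T : Scheme.{u}} (m : T ⟶ Z), m ≫ g = m ≫ g' →
      ∃ m', m' ≫ i = m := fun m hm => ⟨pullback.lift m (m ≫ g)
        (pullback.hom_ext (by simp [ℓ]) (by simp [ℓ, hm])), pullback.lift_fst _ _ _⟩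
  have : IsImmersion i := inferInstance
  have hrange : Set.range i = Set.univ := Set.eq_univ_of_forall fun z =>
    mem_of_etale_points σ f _ i.isLocallyClosed_range (fun S' s hs l hl => by
      obtain ⟨l', rfl⟩ := hfac l (het S' s hs l hl)
      rintro _ ⟨x, rfl⟩
      exact ⟨l' x, rfl⟩) z
  have : IsClosedImmersion i := .of_isPreimmersion i (hrange ▸ isClosed_univ)
  have : IsLocallyNoetherian Z := LocallyOfFiniteType.isLocallyNoetherian f
  have hd : CInt.IsSchematicallyDense (f ⁻¹ᵁ S₀) :=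
    SchDenseLib.preimage_of_isLocallyNoetherian f S₀ hS₀
  obtain ⟨m, hm⟩ := hfac _ h₀
  have hker : i.ker = ⊥ := by
    rw [eq_bot_iff, ← (AlgSpDec.SchDenseFacts.iff_ker_eq_bot _).1 hd, ← hm]
    exact Scheme.Hom.le_ker_comp _ _
  have : IsIso i := IsClosedImmersion.isIso_iff_ker_eq_bot.2 hker
  rw [← cancel_epi i]
  have h := pullback.condition (f := ℓ) (g := pullback.diagonal q)
  have h1 := congrArg (· ≫ pullback.fst q q) h
  have h2 := congrArg (· ≫ pullback.snd q q) h
  simp [ℓ] at h1 h2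
  exact h1.trans h2.symm

end Groth.Agent.NeronHDLib
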