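import Groth.Prelude.Def_Pi1
import Groth.Agent.S1182
import Groth.Agent.S2805
import Groth.Agent.SchTorsor.NormalExt
import Groth.Agent.WeilExt.Extend
import Mathlib.AlgebraicGeometry.Morphisms.Finite
import Mathlib.AlgebraicGeometry.Morphisms.Smooth

/-! # Extension of morphisms into finite schemes over normal bases -/

set_option backward.isDefEq.respectTransparency false
set_option backward.isDefEq.respectTransparency.types false

universe u

open CategoryTheory CategoryTheory.Limits AlgebraicGeometry TopologicalSpace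

namespace Groth.Agent.NeronHDLib

theorem isNormalRing_sections {S : Scheme.{u}} (hS : Pi1.IsNormalScheme S) {U : S.Opens}
    (hU : IsAffineOpen U) : EGA4.IsNormalRing Γ(S, U) := by
  intro p hp
  let y : S := hU.fromSpec ⟨p, hp⟩
  have hy : y ∈ U := by
    have : y ∈ Set.range hU.fromSpec := ⟨_, rfl⟩
    rwa [hU.range_fromSpec] at this
  have hpy : hU.primeIdealOf ⟨y, hy⟩ = ⟨p, hp⟩ :=
    hU.fromSpec.isOpenEmbedding.injective (hU.fromSpec_primeIdealOf ⟨y, hy⟩)
  let _ := TopCat.Presheaf.algebra_section_stalk S.presheaf ⟨y, hy⟩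
  have h := hU.isLocalization_stalk ⟨y, hy⟩
  rw [hpy] at h
  let e : S.presheaf.stalk y ≃+* Localization.AtPrime p :=
    (IsLocalization.algEquiv p.primeCompl (S.presheaf.stalk y) (Localization.AtPrime p)).toRingEquiv
  obtain ⟨hd, hn⟩ := hS y
  exact ⟨e.symm.toMulEquiv.isDomain _, IsIntegrallyClosed.of_equiv e⟩

/-- A scheme smooth over a normal scheme is normal. -/
theorem isNormalScheme_of_smooth {Z S : Scheme.{u}} (f : Z ⟶ S) [Smooth f]
    (hS : Pi1.IsNormalScheme S) : Pi1.IsNormalScheme Z := by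
  intro z
  obtain ⟨U, hU, V, hV, hz, e, hf⟩ := Smooth.exists_isStandardSmooth f z
  let _ := (f.appLE U V e).hom.toAlgebra
  have : Algebra.IsStandardSmooth Γ(S, U) Γ(Z, V) := hf
  obtain ⟨hd, hn⟩ := (S1182.result Γ(S, U) Γ(Z, V)).1 (isNormalRing_sections hS hU)
    (hV.primeIdealOf ⟨z, hz⟩).asIdeal
  let _ := TopCat.Presheaf.algebra_section_stalk Z.presheaf ⟨z, hz⟩
  have h := hV.isLocalization_stalk ⟨z, hz⟩
  let e : Z.presheaf.stalk z ≃+* Localization.AtPrime (hV.primeIdealOf ⟨z, hz⟩).asIdeal :=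
    (IsLocalization.algEquiv (hV.primeIdealOf ⟨z, hz⟩).asIdeal.primeCompl (Z.presheaf.stalk z)
      (Localization.AtPrime (hV.primeIdealOf ⟨z, hz⟩).asIdeal)).toRingEquiv
  exact ⟨e.toMulEquiv.isDomain _, IsIntegrallyClosed.of_equiv e.symm⟩

theorem isReduced_of_isNormalScheme {Z : Scheme.{u}} (hZ : Pi1.IsNormalScheme Z) : IsReduced Z := by
  have : ∀ z : Z, _root_.IsReduced (Z.presheaf.stalk z) := fun z => by
    have := (hZ z).1; infer_instance
  exact isReduced_of_isReduced_stalk Z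

theorem isNormalScheme_opens {Z : Scheme.{u}} (hZ : Pi1.IsNormalScheme Z) (W : Z.Opens) :
    Pi1.IsNormalScheme W := fun w => by
  let e := (asIso (W.ι.stalkMap w)).commRingCatIsoToRingEquiv
  obtain ⟨hd, hn⟩ := hZ (W.ι w)
  exact ⟨e.symm.toMulEquiv.isDomain _, IsIntegrallyClosed.of_equiv e⟩

/-- A morphism to an integral scheme over the base extends from a dense open of a normal source. -/
theorem exists_extension_of_isIntegralHom {S T Z : Scheme.{u}} (π : T ⟶ S) [IsIntegralHom π]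
    (f : Z ⟶ S) [IsLocallyNoetherian Z] (hZ : Pi1.IsNormalScheme Z) (U : Z.Opens)
    (hU : Dense (U : Set Z)) (y : (U : Scheme.{u}) ⟶ T) (hy : y ≫ π = U.ι ≫ f) :
    ∃ x : Z ⟶ T, x ≫ π = f ∧ U.ι ≫ x = y := by
  have : IsReduced Z := isReduced_of_isNormalScheme hZ
  have local_ext : ∀ z : Z, ∃ (W : Z.Opens) (g : (W : Scheme.{u}) ⟶ T), z ∈ W ∧ g ≫ π = W.ι ≫ f ∧
      pullback.fst W.ι U.ι ≫ g = pullback.snd W.ι U.ι ≫ y := by
    intro z
    obtain ⟨W, hzW, hW, -⟩ := WeilExt.exists_integral_component (fun p => (hZ p).1) z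
    let K := (W : Scheme.{u}).functionField
    let ξ := (W : Scheme.{u}).fromSpecStalk (genericPoint W)
    obtain ⟨w, hwW, hwU⟩ := hU.inter_open_nonempty W W.2 ⟨z, hzW⟩
    have hgen : genericPoint W.toScheme ∈ W.ι ⁻¹ᵁ U :=
      SchTorsor.genericPoint_mem (W.ι ⁻¹ᵁ U) (x := (⟨w, hwW⟩ : W)) hwU
    have hr : Set.range (ξ ≫ W.ι) ⊆ Set.range U.ι := by
      rw [Scheme.Opens.range_ι]
      rintro _ ⟨a, rfl⟩
      have : ξ a ∈ Set.range ξ := ⟨a, rfl⟩
      rw [Scheme.range_fromSpecStalk] at this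
      exact (show ξ a ⤳ genericPoint W.toScheme from this).mem_open (W.ι ⁻¹ᵁ U).2 hgen
    let δ : Spec K ⟶ (U : Scheme.{u}) := IsOpenImmersion.lift U.ι (ξ ≫ W.ι) hr
    have hδ : δ ≫ U.ι = ξ ≫ W.ι := IsOpenImmersion.lift_fac _ _ _
    obtain ⟨s, hs, hs'⟩ := SchTorsor.exists_section_of_normal (isNormalScheme_opens hZ W)
      (pullback.snd π (W.ι ≫ f)) (pullback.lift (δ ≫ y) ξ (by
        rw [Category.assoc, hy, reassoc_of% hδ]))
      (pullback.lift_snd _ _ _)
    have hs₁ : (s ≫ pullback.fst π (W.ι ≫ f)) ≫ π = W.ι ≫ f := by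
      rw [Category.assoc, pullback.condition, reassoc_of% hs]
    refine ⟨W, s ≫ pullback.fst π (W.ι ≫ f), hzW, hs₁, ?_⟩
    have : IsReduced (pullback W.ι U.ι) := isReduced_of_isOpenImmersion (pullback.fst W.ι U.ι)
    let ε : Spec K ⟶ pullback W.ι U.ι := pullback.lift ξ δ hδ.symm
    have : IsDominant ε := by
      refine ⟨fun p => ?_⟩
      have hp : ε (IsLocalRing.closedPoint K) ⤳ p := by
        rw [← (pullback.fst W.ι U.ι).isOpenEmbedding.isInducing.specializes_iff,
          ← Scheme.Hom.comp_apply, pullback.lift_fst]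
        show ξ (IsLocalRing.closedPoint ((W : Scheme.{u}).presheaf.stalk (genericPoint W))) ⤳ _
        rw [Scheme.fromSpecStalk_closedPoint]
        exact genericPoint_specializes _
      exact closure_mono (Set.singleton_subset_iff.2 (Set.mem_range_self _)) (specializes_iff_mem_closure.1 hp)
    refine ext_of_isDominant_of_isSeparated π ?_ ε ?_
    · simp only [Category.assoc, hy]
      rw [← pullback.condition_assoc]
      exact congrArg (pullback.fst W.ι U.ι ≫ ·) ((Category.assoc _ _ _).symm.trans hs₁)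
    · rw [pullback.lift_fst_assoc, pullback.lift_snd_assoc, reassoc_of% hs', pullback.lift_fst]
  choose W g hzW hg hgy using local_ext
  obtain ⟨h, hh, hhW⟩ := WeilExt.glue_extensions f π y hU W g hg fun i P a b hab => by
    rw [← pullback.lift_fst a b hab, Category.assoc, hgy, pullback.lift_snd_assoc]
  have htop : (⨆ i, W i) = ⊤ := top_unique fun z _ => Opens.mem_iSup.2 ⟨z, hzW z⟩
  have : IsIso (⨆ i, W i).ι := by
    rw [htop]; exact inferInstanceAs (IsIso Z.topIso.hom)
  refine ⟨inv (⨆ i, W i).ι ≫ h, by rw [Category.assoc, hh, IsIso.inv_hom_id_assoc], ?_⟩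
  refine Scheme.Cover.hom_ext (Precoverage.ZeroHypercover.pullback₁ (U.ι ≫ inv (⨆ i, W i).ι) (Scheme.Opens.iSupOpenCover W)) _ _ fun i => ?_
  change pullback.fst (U.ι ≫ inv (⨆ i, W i).ι) (Z.homOfLE (le_iSup W i)) ≫ U.ι ≫ inv (⨆ i, W i).ι ≫ h =
    pullback.fst (U.ι ≫ inv (⨆ i, W i).ι) (Z.homOfLE (le_iSup W i)) ≫ y
  rw [← Category.assoc U.ι, pullback.condition_assoc, hhW]
  have e : pullback.snd (U.ι ≫ inv (⨆ i, W i).ι) (Z.homOfLE (le_iSup W i)) ≫ (W i).ι =
      pullback.fst (U.ι ≫ inv (⨆ i, W i).ι) (Z.homOfLE (le_iSup W i)) ≫ U.ι := by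
    rw [← Scheme.homOfLE_ι Z (le_iSup W i), ← pullback.condition_assoc, Category.assoc U.ι]
    erw [IsIso.inv_hom_id, Category.comp_id]
  rw [← pullback.lift_fst _ _ e, Category.assoc, hgy, pullback.lift_snd_assoc]

/-- A section of a finite morphism with normal total space over a normal base is open. -/
theorem isOpen_range_section {S T Z : Scheme.{u}} (π : T ⟶ S) [IsFinite π]
    (hT : Pi1.IsNormalScheme T)
    (f : Z ⟶ S) [Smooth f] [IsLocallyNoetherian Z] (x : Z ⟶ T) (hx : x ≫ π = f) :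
    IsOpen (Set.range (pullback.lift x (𝟙 Z) (by rw [Category.id_comp, hx]) : Z ⟶ pullback π f)) := by
  let q := pullback.snd π f
  let σ : Z ⟶ pullback π f := pullback.lift x (𝟙 Z) (by rw [Category.id_comp, hx])
  have hσ : σ ≫ q = 𝟙 Z := pullback.lift_snd _ _ _
  have : IsClosedImmersion (σ ≫ q) := by rw [hσ]; infer_instance
  have : IsClosedImmersion σ := IsClosedImmersion.of_comp σ q
  have hP : Pi1.IsNormalScheme (pullback π f) := isNormalScheme_of_smooth (pullback.fst π f) hT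
  have : IsLocallyNoetherian (pullback π f) := LocallyOfFiniteType.isLocallyNoetherian q
  have : IsReduced (pullback π f) := isReduced_of_isNormalScheme hP
  refine isOpen_iff_forall_mem_open.2 ?_
  rintro _ ⟨z, rfl⟩
  obtain ⟨ξ, hξz, hmax⟩ := WeilExt.exists_maximal_generization z
  obtain ⟨W, hwW, hW, -⟩ := WeilExt.exists_integral_component (fun p => (hP p).1) (σ z)
  have hξW : σ ξ ∈ W := (hξz.map σ.continuous).mem_open W.2 hwW
  let γ : ↥(pullback π f) := W.ι (genericPoint W.toScheme)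
  have hγ : ∀ p ∈ W, γ ⤳ p := fun p hp =>
    (genericPoint_specializes (α := ↥W.toScheme) ⟨p, hp⟩).map W.ι.continuous
  have hγξ : γ = σ ξ := by
    have hq : q γ ⤳ ξ := by
      have := (hγ _ hξW).map q.continuous
      rwa [← Scheme.Hom.comp_apply σ q, hσ] at this
    have hq' : q γ = ξ := hmax _ hq
    have hd := (q.isDiscrete_preimage_singleton ξ).to_subtype
    have hs : q (σ ξ) = ξ := by rw [← Scheme.Hom.comp_apply, hσ]; rfl
    have hsp : (⟨γ, hq'⟩ : ↥(q ⁻¹' {ξ})) ⤳ ⟨σ ξ, hs⟩ := (subtype_specializes_iff _ _).2 (hγ _ hξW)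
    exact congrArg Subtype.val hsp.eq
  have hWr : (W : Set ↥(pullback π f)) ⊆ Set.range σ := fun p hp =>
    (hγξ ▸ hγ p hp).mem_closed σ.isClosedEmbedding.isClosed_range ⟨ξ, rfl⟩
  exact ⟨W, hWr, W.2, hwW⟩

/-- A morphism from a smooth scheme over a normal base to a finite normal scheme is open. -/
theorem isOpenMap_to_finite {S T Z : Scheme.{u}} (π : T ⟶ S) [IsFinite π]
    (hT : Pi1.IsNormalScheme T)
    (f : Z ⟶ S) [Smooth f] [IsLocallyNoetherian Z] (x : Z ⟶ T) (hx : x ≫ π = f) :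
    IsOpenMap x := by
  let q := pullback.snd π f
  let σ : Z ⟶ pullback π f := pullback.lift x (𝟙 Z) (by rw [Category.id_comp, hx])
  have hσ : σ ≫ q = 𝟙 Z := pullback.lift_snd _ _ _
  have : IsClosedImmersion (σ ≫ q) := by rw [hσ]; infer_instance
  have : IsClosedImmersion σ := IsClosedImmersion.of_comp σ q
  have hP : Pi1.IsNormalScheme (pullback π f) := isNormalScheme_of_smooth (pullback.fst π f) hT
  have : IsLocallyNoetherian (pullback π f) := LocallyOfFiniteType.isLocallyNoetherian q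
  have : IsReduced (pullback π f) := isReduced_of_isNormalScheme hP
  have hs : IsOpenMap σ :=
    (Topology.IsOpenEmbedding.mk σ.isClosedEmbedding.isEmbedding (isOpen_range_section π hT f x hx)).isOpenMap
  have e : x = σ ≫ pullback.fst π f := (pullback.lift_fst _ _ _).symm
  rw [e, Scheme.Hom.comp_base, TopCat.coe_comp]
  exact (pullback.fst π f).isOpenMap.comp hs

/-- The image of a section over a normal base lands in the smooth locus. -/
theorem range_subset_smoothLocus {S T Z : Scheme.{u}} (π : T ⟶ S) [IsFinite π]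
    [LocallyOfFinitePresentation π] (hT : Pi1.IsNormalScheme T)
    (f : Z ⟶ S) [Smooth f] [IsLocallyNoetherian Z] (x : Z ⟶ T) (hx : x ≫ π = f) :
    Set.range x ⊆ (π.smoothLocus : Set T) := by
  rintro _ ⟨z, rfl⟩
  let q := pullback.snd π f
  let σ : Z ⟶ pullback π f := pullback.lift x (𝟙 Z) (by rw [Category.id_comp, hx])
  have hσ : σ ≫ q = 𝟙 Z := pullback.lift_snd _ _ _
  have : IsClosedImmersion (σ ≫ q) := by rw [hσ]; infer_instance
  have : IsClosedImmersion σ := IsClosedImmersion.of_comp σ q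
  have hP : Pi1.IsNormalScheme (pullback π f) := isNormalScheme_of_smooth (pullback.fst π f) hT
  have : IsLocallyNoetherian (pullback π f) := LocallyOfFiniteType.isLocallyNoetherian q
  have : IsReduced (pullback π f) := isReduced_of_isNormalScheme hP
  let W : (pullback π f).Opens := ⟨Set.range σ, isOpen_range_section π hT f x hx⟩
  have hwW : σ z ∈ W := ⟨z, rfl⟩
  have hWr : (W : Set ↥(pullback π f)) ⊆ Set.range σ := subset_rfl
  have : IsIso (σ ∣_ W) := by
    have : IsClosedImmersion (σ ∣_ W) := IsZariskiLocalAtTarget.restrict ‹_› W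
    have : Surjective (σ ∣_ W) := by
      refine ⟨fun p => ?_⟩
      obtain ⟨a, ha⟩ := hWr p.2
      refine ⟨⟨a, show σ a ∈ W from ha ▸ p.2⟩, W.ι.isOpenEmbedding.injective ?_⟩
      rw [← Scheme.Hom.comp_apply, morphismRestrict_ι, Scheme.Hom.comp_apply]
      exact ha
    have : IsReduced W.toScheme := isReduced_of_isOpenImmersion W.ι
    exact isIso_of_isClosedImmersion_of_surjective _
  have hWq : W.ι ≫ q = inv (σ ∣_ W) ≫ (σ ⁻¹ᵁ W).ι := by
    rw [IsIso.eq_inv_comp, morphismRestrict_ι_assoc, hσ, Category.comp_id]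
  have hsm : Smooth (W.ι ≫ pullback.fst π f ≫ π) := by
    rw [pullback.condition, reassoc_of% hWq]
    infer_instance
  obtain ⟨V, hV, hVs⟩ := S2805.result π (pullback.fst π f ≫ π) (pullback.fst π f) rfl (σ z)
    (Flat.stalkMap _ _) ⟨W, hwW, hsm⟩
  have hxV : x z ∈ V := by
    have : pullback.fst π f (σ z) = x z := by
      rw [← Scheme.Hom.comp_apply, pullback.lift_fst]
    exact this ▸ hV
  have : (⟨x z, hxV⟩ : V) ∈ (V.ι ≫ π).smoothLocus := by
    rw [Scheme.Hom.smoothLocus_eq_top]; trivial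
  rwa [← Scheme.Hom.preimage_smoothLocus_eq] at this

end Groth.Agent.NeronHDLib
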