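import Mathlib.RingTheory.Etale.Kaehler
import Mathlib.RingTheory.Etale.Locus
import Mathlib.RingTheory.Ideal.KrullsHeightTheorem
import Mathlib.RingTheory.TensorProduct.Free
import Mathlib.RingTheory.Smooth.Flat
import Mathlib.RingTheory.Flat.TorsionFree

/-! # Morphisms of smooth algebras étale in codimension one over the base are étale -/

set_option backward.isDefEq.respectTransparency false
set_option backward.isDefEq.respectTransparency.types false

universe u

open TensorProduct KaehlerDifferential

namespace Groth.Agent.NeronHDLib

section

variable (R B C D : Type u) [CommRing R] [CommRing B] [CommRing C] [CommRing D]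
  [Algebra R B] [Algebra R C] [Algebra R D] [Algebra B C] [Algebra B D] [Algebra C D]
  [IsScalarTower R B C] [IsScalarTower R B D] [IsScalarTower R C D] [IsScalarTower B C D]

theorem bijective_baseChange_mapBaseChange [Algebra.FormallyEtale C D] [Algebra.FormallyEtale B D] :
    Function.Bijective ((mapBaseChange R B C).baseChange D) := by
  let e₁ := TensorProduct.AlgebraTensorModule.cancelBaseChange B C D D (Ω[B⁄R])
  let e₂ := tensorKaehlerEquivOfFormallyEtale R C D
  let e₃ := tensorKaehlerEquivOfFormallyEtale R B D
  have hcomp : ∀ w : Ω[B⁄R], KaehlerDifferential.map R R C D (KaehlerDifferential.map R R B C w) =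
      KaehlerDifferential.map R R B D w := by
    intro w
    have hw : w ∈ Submodule.span B (Set.range (KaehlerDifferential.D R B)) := by
      rw [KaehlerDifferential.span_range_derivation]; trivial
    induction hw using Submodule.span_induction with
    | mem x hx =>
      obtain ⟨b, rfl⟩ := hx
      rw [KaehlerDifferential.map_D, KaehlerDifferential.map_D, KaehlerDifferential.map_D,
        ← IsScalarTower.algebraMap_apply]
    | zero => simp
    | add a b _ _ ha hb => simp only [map_add, ha, hb]
    | smul b x _ hx =>
      rw [(KaehlerDifferential.map R R B C).map_smul, (KaehlerDifferential.map R R B D).map_smul,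
        ← IsScalarTower.algebraMap_smul C b (KaehlerDifferential.map R R B C x),
        (KaehlerDifferential.map R R C D).map_smul, hx, IsScalarTower.algebraMap_smul C b]
  have h : ∀ x, e₂ ((mapBaseChange R B C).baseChange D x) = e₃ (e₁ x) := by
    intro x
    induction x with
    | zero => simp
    | add a b ha hb => simp only [map_add, ha, hb]
    | tmul d y =>
      induction y with
      | zero => simp
      | add a b ha hb => simp only [TensorProduct.tmul_add, map_add, ha, hb]
      | tmul c w =>
        simp only [e₁, e₂, e₃, LinearMap.baseChange_tmul, mapBaseChange_tmul,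
          AlgebraTensorModule.cancelBaseChange_tmul, tensorKaehlerEquivOfFormallyEtale_apply,
          map_smul, hcomp]
        rw [Algebra.smul_def c d, mul_comm, mul_smul, IsScalarTower.algebraMap_smul]
  have : ((mapBaseChange R B C).baseChange D : _ → _) = e₂.symm ∘ e₃ ∘ e₁ :=
    funext fun x => e₂.injective (by simp [h])
  rw [this]
  exact e₂.symm.bijective.comp (e₃.bijective.comp e₁.bijective)

end

section

variable {R M N ι : Type*} [CommRing R] [AddCommGroup M] [Module R M] [AddCommGroup N] [Module R N]
  [Fintype ι] [DecidableEq ι]

theorem isUnit_det_toMatrix_of_bijective (f : M →ₗ[R] N) (v : Module.Basis ι R M)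
    (v' : Module.Basis ι R N) (h : Function.Bijective f) : IsUnit (LinearMap.toMatrix v v' f).det :=
  (LinearEquiv.ofBijective f h).isUnit_det v v'

theorem isUnit_map_det_of_baseChange_bijective (D : Type*) [CommRing D] [Algebra R D] (f : M →ₗ[R] N)
    (v : Module.Basis ι R M) (v' : Module.Basis ι R N) (h : Function.Bijective (f.baseChange D)) :
    IsUnit (algebraMap R D (LinearMap.toMatrix v v' f).det) := by
  have := isUnit_det_toMatrix_of_bijective (f.baseChange D) (Algebra.TensorProduct.basis D v)
    (Algebra.TensorProduct.basis D v') h
  rwa [LinearMap.toMatrix_baseChange, ← RingHom.mapMatrix_apply, ← RingHom.map_det] at this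

end

variable {R B A : Type u} [CommRing R] [CommRing B] [CommRing A] [IsNoetherianRing R]
  [Algebra R B] [Algebra R A] [Algebra B A] [IsScalarTower R B A]

set_option maxHeartbeats 1000000 in
/-- A morphism of smooth algebras which is étale at all primes lying over primes of height at most
one of the base is étale. -/
theorem etale_of_etale_height_le_one [Algebra.Smooth R B] [Algebra.Smooth R A]
    (H : ∀ P : Ideal A, [P.IsPrime] → (P.comap (algebraMap R A)).height ≤ 1 → Algebra.IsEtaleAt B P) :
    Algebra.Etale B A := by
  classical
  have : IsNoetherianRing A := Algebra.FiniteType.isNoetherianRing R A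
  refine ⟨(Algebra.etaleLocus_eq_univ_iff (R := B) (A := A)).1 (Set.eq_univ_of_forall fun q => ?_),
    Algebra.FinitePresentation.of_restrict_scalars_finitePresentation R B A⟩
  let C := Localization.AtPrime q.asIdeal
  have : Algebra.FormallySmooth R C := Algebra.FormallySmooth.comp R A C
  have : Module.Flat R C := Module.Flat.trans R A C
  let Φ := mapBaseChange R B C
  have : Module.Projective B (Ω[B⁄R]) := inferInstance
  have : Module.Free C (C ⊗[B] Ω[B⁄R]) := Module.free_of_flat_of_isLocalRing
  have : Module.Free C (Ω[C⁄R]) := Module.free_of_flat_of_isLocalRing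
  let b₁ := Module.Free.chooseBasis C (C ⊗[B] Ω[B⁄R])
  let b₂ := Module.Free.chooseBasis C (Ω[C⁄R])
  -- at every prime of `C` of height at most one the differential is bijective
  have key : ∀ P : Ideal C, [P.IsPrime] → P.height ≤ 1 →
      Function.Bijective (Φ.baseChange (Localization.AtPrime P)) := by
    intro P _ hP
    let D := Localization.AtPrime P
    have hloc : IsLocalization.AtPrime D (P.comap (algebraMap A C)) :=
      IsLocalization.isLocalization_isLocalization_atPrime_isLocalization q.asIdeal.primeCompl D P
    have hH : ((P.comap (algebraMap A C)).comap (algebraMap R A)).height ≤ 1 := by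
      rw [Ideal.comap_comap, ← IsScalarTower.algebraMap_eq]
      have : Algebra.HasGoingDown R C := inferInstance
      have : P.LiesOver (P.comap (algebraMap R C)) := ⟨rfl⟩
      refine le_trans ?_ hP
      rw [Ideal.height_eq_height_add_of_liesOver_of_hasGoingDown (P.comap (algebraMap R C)) P]
      exact le_self_add
    have he : Algebra.FormallyEtale B (Localization.AtPrime (P.comap (algebraMap A C))) := H _ hH
    have : Algebra.FormallyEtale B D := Algebra.FormallyEtale.of_equiv
      ((IsLocalization.algEquiv (P.comap (algebraMap A C)).primeCompl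
        (Localization.AtPrime (P.comap (algebraMap A C))) D).restrictScalars B)
    have : Algebra.FormallyEtale C D := Algebra.FormallyEtale.of_isLocalization P.primeCompl
    exact bijective_baseChange_mapBaseChange R B C D
  obtain ⟨P₀, hP₀, -⟩ := Ideal.exists_minimalPrimes_le (bot_le (a := IsLocalRing.maximalIdeal C))
  have := hP₀.1.1
  have h₀ : P₀.height ≤ 1 := by
    rw [Ideal.height_eq_zero_iff.2 hP₀]
    exact zero_le_one
  let D₀ := Localization.AtPrime P₀
  have hcard := Fintype.card_congr ((Algebra.TensorProduct.basis D₀ b₁).indexEquiv
    ((Algebra.TensorProduct.basis D₀ b₂).map (LinearEquiv.ofBijective _ (key P₀ h₀)).symm))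
  let σ := Fintype.equivOfCardEq hcard
  let b₂' := b₂.reindex σ.symm
  let M := LinearMap.toMatrix b₁ b₂' Φ
  suffices hM : IsUnit M.det by
    have hΦ : Function.Bijective Φ := by
      have : (LinearMap.toMatrix b₁ b₂' Φ).det = M.det := rfl
      exact (LinearEquiv.ofIsUnitDet (v := b₁) (v' := b₂') hM).bijective
    have h1 : Subsingleton (Ω[C⁄B]) := by
      refine subsingleton_of_forall_eq 0 fun y => ?_
      obtain ⟨x, rfl⟩ := KaehlerDifferential.map_surjective R B C y
      exact ((KaehlerDifferential.exact_mapBaseChange_map R B C) x).2 (hΦ.2 x)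
    have h2 : Subsingleton (Algebra.H1Cotangent B C) := by
      refine subsingleton_of_forall_eq 0 fun x => ?_
      have hx : Algebra.H1Cotangent.δ R B C x = 0 := hΦ.1 (by
        rw [map_zero]
        exact (Algebra.H1Cotangent.exact_δ_mapBaseChange R B C _).2 ⟨x, rfl⟩)
      obtain ⟨y, rfl⟩ := (Algebra.H1Cotangent.exact_map_δ R B C x).1 hx
      rw [Subsingleton.elim y 0, map_zero]
    exact (⟨h1, h2⟩ : Algebra.FormallyEtale B C)
  by_contra hd
  obtain ⟨P, hP, -⟩ := Ideal.exists_minimalPrimes_le
    (IsLocalRing.le_maximalIdeal (Ideal.span_singleton_ne_top hd))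
  have := hP.1.1
  have hP1 : P.height ≤ 1 := Ideal.height_le_one_of_isPrincipal_of_mem_minimalPrimes _ P hP
  let D := Localization.AtPrime P
  have hu : IsUnit (algebraMap C D M.det) :=
    isUnit_map_det_of_baseChange_bijective D Φ b₁ b₂' (key P hP1)
  rw [IsLocalization.AtPrime.isUnit_to_map_iff D P] at hu
  exact hu (hP.1.2 (Ideal.mem_span_singleton_self _))

end Groth.Agent.NeronHDLib
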