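import Mathlib.AlgebraicGeometry.Morphisms.Etale
import Mathlib.AlgebraicGeometry.AffineScheme

/-! # A smooth morphism that is étale on a dense open is étale -/

set_option backward.isDefEq.respectTransparency false
set_option backward.isDefEq.respectTransparency.types false

universe u

open CategoryTheory CategoryTheory.Limits AlgebraicGeometry

namespace Groth.Agent.NeronHDLib

theorem etale_appLE_of_etale_ι_comp {X Y : Scheme.{u}} (f : X ⟶ Y) {U : Y.Opens} (hU : IsAffineOpen U)
    {W : X.Opens} (hW : IsAffineOpen W) (e : W ≤ f ⁻¹ᵁ U) [Etale (W.ι ≫ f)] :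
    (f.appLE U W e).hom.Etale := by
  have : Etale (f.resLE U W e ≫ U.ι) := by rw [Scheme.Hom.resLE_comp_ι]; infer_instance
  have h : Etale (f.resLE U W e) := Etale.of_comp _ U.ι
  have : IsAffine (U : Scheme.{u}) := hU
  have : IsAffine (W : Scheme.{u}) := hW
  rw [HasRingHomProperty.iff_of_isAffine (P := @Etale)] at h
  exact (RingHom.Etale.respectsIso.arrow_mk_iso_iff (arrowResLEAppIso f U W e)).1 h

theorem etale_of_etale_dense {X Y : Scheme.{u}} (f : X ⟶ Y) [Smooth f] (O : X.Opens)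
    (hO : Dense (O : Set X)) [Etale (O.ι ≫ f)] : Etale f := by
  rw [Etale.iff_smoothOfRelativeDimension_zero]
  constructor
  intro z
  obtain ⟨U, hU, V, hV, hz, e, hf⟩ := Smooth.exists_isStandardSmooth f z
  refine ⟨U, hU, V, hV, hz, e, ?_⟩
  obtain ⟨w, hwV, hwO⟩ := hO.inter_open_nonempty V V.2 ⟨z, hz⟩
  obtain ⟨g, hg, hwg⟩ := hV.exists_basicOpen_le ⟨w, hwO⟩ hwV
  let W := X.basicOpen g
  have hWV : W ≤ V := X.basicOpen_le g
  have : Etale (W.ι ≫ f) := by
    rw [show W.ι = X.homOfLE hg ≫ O.ι from (Scheme.homOfLE_ι _ _).symm, Category.assoc]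
    infer_instance
  have het := etale_appLE_of_etale_ι_comp f hU (hV.basicOpen g) (hWV.trans e)
  algebraize [(f.appLE U V e).hom]
  let : Algebra Γ(Y, U) Γ(X, W) := (f.appLE U W (hWV.trans e)).hom.toAlgebra
  let : Algebra Γ(X, V) Γ(X, W) := (X.presheaf.map (homOfLE hWV).op).hom.toAlgebra
  have : IsScalarTower Γ(Y, U) Γ(X, V) Γ(X, W) := IsScalarTower.of_algebraMap_eq' (by
    exact congrArg CommRingCat.Hom.hom (Scheme.Hom.appLE_map f e (homOfLE hWV).op).symm)
  have : IsLocalization.Away g Γ(X, W) := hV.isLocalization_basicOpen g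
  have : Algebra.Etale Γ(Y, U) Γ(X, W) := het
  have : Nontrivial Γ(X, W) := by
    have : Nonempty W := ⟨⟨w, hwg⟩⟩
    infer_instance
  have hA : Algebra.IsStandardSmooth Γ(Y, U) Γ(X, V) := hf
  obtain ⟨ι, σ, _, _, ⟨P⟩⟩ := hA.out
  have : Algebra.IsStandardSmoothOfRelativeDimension P.dimension Γ(Y, U) Γ(X, V) :=
    ⟨ι, σ, inferInstance, inferInstance, P, rfl⟩
  have : Algebra.IsStandardSmoothOfRelativeDimension 0 Γ(X, V) Γ(X, W) :=
    Algebra.IsStandardSmoothOfRelativeDimension.localization_away g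
  have : Algebra.IsStandardSmoothOfRelativeDimension (0 + P.dimension) Γ(Y, U) Γ(X, W) :=
    Algebra.IsStandardSmoothOfRelativeDimension.trans P.dimension 0 Γ(Y, U) Γ(X, V) Γ(X, W)
  have hrank := Algebra.IsStandardSmoothOfRelativeDimension.rank_kaehlerDifferential
    (R := Γ(Y, U)) (S := Γ(X, W)) (0 + P.dimension)
  rw [rank_subsingleton' , eq_comm, Nat.cast_eq_zero, zero_add] at hrank
  show Algebra.IsStandardSmoothOfRelativeDimension 0 Γ(Y, U) Γ(X, V)
  rw [← hrank]
  infer_instance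

end Groth.Agent.NeronHDLib
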