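import Groth.Agent.NeronHDLib.IntClosureNormal
import Mathlib.AlgebraicGeometry.Normalization
import Mathlib.AlgebraicGeometry.Morphisms.Finite

/-! # Normalization of a normal Noetherian scheme in an etale scheme -/

set_option backward.isDefEq.respectTransparency false
set_option backward.isDefEq.respectTransparency.types false

universe u

open CategoryTheory CategoryTheory.Limits AlgebraicGeometry TopologicalSpace

namespace Groth.Agent.NeronHDLib

/-- Affine opens with integrally closed domains as sections cover a normal scheme. -/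
theorem exists_affine_domain_nhd {S : Scheme.{u}} [IsLocallyNoetherian S] (hS : Pi1.IsNormalScheme S)
    (s : S) : ∃ U : S.Opens, IsAffineOpen U ∧ s ∈ U ∧ IsDomain Γ(S, U) ∧ IsIntegrallyClosed Γ(S, U) := by
  have : AlgebraicGeometry.IsReduced S := isReduced_of_isNormalScheme hS
  obtain ⟨W, hsW, hW, -⟩ := WeilExt.exists_integral_component (fun p => (hS p).1) s
  obtain ⟨U, hU, hsU, hUW⟩ := exists_isAffineOpen_mem_and_subset (x := s) (U := W) hsW
  have : Nonempty U.toScheme := ⟨⟨s, hsU⟩⟩
  have : AlgebraicGeometry.IsIntegral U.toScheme := isIntegral_of_isOpenImmersion (S.homOfLE hUW)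
  exact ⟨U, hU, hsU, U.topIso.commRingCatIsoToRingEquiv.symm.toMulEquiv.isDomain _,
    isIntegrallyClosed_sections hS U⟩

/-- The integral closure of a normal affine open in the sections of an etale quasi-compact scheme
over it is finite. -/
theorem finite_integralClosure_sections {X S : Scheme.{u}} (f : X ⟶ S) [Etale f] [QuasiCompact f]
    {U : S.Opens} (hU : IsAffineOpen U) [IsDomain Γ(S, U)] [IsIntegrallyClosed Γ(S, U)]
    [IsNoetherianRing Γ(S, U)] :
    letI := (f.app U).hom.toAlgebra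
    Module.Finite Γ(S, U) (integralClosure Γ(S, U) Γ(X, f ⁻¹ᵁ U)) := by
  let _ := (f.app U).hom.toAlgebra
  obtain ⟨s, hs, hsU⟩ := isCompact_iff_finite_and_eq_biUnion_affineOpens.1
    (f.isCompact_preimage hU.isCompact)
  have hle : ∀ V : s, V.1.1 ≤ f ⁻¹ᵁ U := fun V =>
    hsU ▸ le_iSup₂ (f := fun (i : X.affineOpens) (_ : i ∈ s) => (i : X.Opens)) V.1 V.2
  let _ : ∀ V : s, Algebra Γ(S, U) Γ(X, V.1.1) := fun V => (f.appLE U V.1.1 (hle V)).hom.toAlgebra
  have : ∀ V : s, Algebra.Etale Γ(S, U) Γ(X, V.1.1) := fun V => f.etale_appLE hU V.1.2 (hle V)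
  have : ∀ V : s, Module.Finite Γ(S, U) (integralClosure Γ(S, U) Γ(X, V.1.1)) :=
    fun V => finite_integralClosure_etale _ _
  have : Finite s := hs.to_subtype
  let j : ∀ V : s, Γ(X, f ⁻¹ᵁ U) →ₐ[Γ(S, U)] Γ(X, V.1.1) := fun V =>
    { (X.presheaf.map (homOfLE (hle V)).op).hom with commutes' := fun _ => rfl }
  let Φ : integralClosure Γ(S, U) Γ(X, f ⁻¹ᵁ U) →ₗ[Γ(S, U)] ∀ V : s, integralClosure Γ(S, U) Γ(X, V.1.1) :=
    LinearMap.pi fun V => (((j V).comp (integralClosure Γ(S, U) Γ(X, f ⁻¹ᵁ U)).val).codRestrict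
      (integralClosure Γ(S, U) Γ(X, V.1.1)) fun c => c.2.map (j V)).toLinearMap
  refine Module.Finite.of_injective Φ fun a b h => Subtype.ext ?_
  refine X.sheaf.eq_of_locally_eq' (fun V : s => V.1.1) _ (fun V => homOfLE (hle V)) ?_ a.1 b.1
    fun V => congrArg Subtype.val (congrFun h V)
  rw [hsU]
  exact iSup₂_le fun V hV => le_iSup (fun V : s => V.1.1) ⟨V, hV⟩

variable {X S : Scheme.{u}} (f : X ⟶ S) [Etale f] [QuasiCompact f] [IsSeparated f]

/-- The normalization in an etale scheme is finite. -/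
theorem isFinite_fromNormalization [IsLocallyNoetherian S] (hS : Pi1.IsNormalScheme S) :
    IsFinite f.fromNormalization := by
  choose U hU hsU hd hn using exists_affine_domain_nhd hS
  refine IsZariskiLocalAtTarget.of_iSup_eq_top (fun s : S => U s)
    (top_unique fun s _ => Opens.mem_iSup.2 ⟨s, hsU s⟩) fun s => ?_
  have : IsAffine ((U s : Scheme.{u})) := hU s
  rw [HasAffineProperty.iff_of_isAffine (P := @IsFinite)]
  refine ⟨(hU s).preimage f.fromNormalization, ?_⟩
  have := hd s
  have := hn s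
  have : IsNoetherianRing Γ(S, U s) := IsLocallyNoetherian.component_noetherian ⟨U s, hU s⟩
  let _ := (f.app (U s)).hom.toAlgebra
  have hfin := finite_integralClosure_sections f (hU s)
  have h1 : (algebraMap Γ(S, U s) (integralClosure Γ(S, U s) Γ(X, f ⁻¹ᵁ U s))).Finite :=
    RingHom.finite_algebraMap.2 hfin
  have h2 : (f.fromNormalization.app (U s)).hom.Finite := by
    rw [f.fromNormalization_app (hU s), CommRingCat.hom_comp]
    exact ((f.normalizationObjIso (hU s)).symm.commRingCatIsoToRingEquiv).finite.comp h1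
  rw [← Scheme.Hom.resLE_eq_morphismRestrict]
  refine (RingHom.finite_respectsIso.arrow_mk_iso_iff
    (arrowResLEAppIso f.fromNormalization (U s) _ le_rfl)).2 ?_
  rwa [← Scheme.Hom.app_eq_appLE]

/-- The normalization in an etale scheme is normal. -/
theorem isNormalScheme_normalization [IsLocallyNoetherian S] (hS : Pi1.IsNormalScheme S) :
    Pi1.IsNormalScheme f.normalization := by
  intro t
  have : IsLocallyNoetherian X := LocallyOfFiniteType.isLocallyNoetherian f
  obtain ⟨U, hU, htU, -, -⟩ := exists_affine_domain_nhd hS (f.fromNormalization t)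
  let _ := (f.app U).hom.toAlgebra
  let C := integralClosure Γ(S, U) Γ(X, f ⁻¹ᵁ U)
  have hC : EGA4.IsNormalRing C.toSubring := by
    refine isNormalRing_of_isIntegrallyClosedIn (isNormalScheme_of_smooth f hS) (f ⁻¹ᵁ U)
      (f.isCompact_preimage hU.isCompact) C.toSubring fun b hb => ?_
    exact isIntegral_trans (R := Γ(S, U)) (A := C) b hb
  have hV : IsAffineOpen (f.fromNormalization ⁻¹ᵁ U) := hU.preimage f.fromNormalization
  have hn : EGA4.IsNormalRing Γ(f.normalization, f.fromNormalization ⁻¹ᵁ U) :=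
    FlatLoc6.isNormalRing_of_ringEquiv
      (show (C.toSubring : Type u) ≃+* _ from (f.normalizationObjIso hU).symm.commRingCatIsoToRingEquiv) hC
  obtain ⟨hd', hn'⟩ := hn (hV.primeIdealOf ⟨t, (htU : t ∈ f.fromNormalization ⁻¹ᵁ U)⟩).asIdeal
  let _ := TopCat.Presheaf.algebra_section_stalk f.normalization.presheaf (U := f.fromNormalization ⁻¹ᵁ U) ⟨t, htU⟩
  have h := hV.isLocalization_stalk ⟨t, (htU : t ∈ f.fromNormalization ⁻¹ᵁ U)⟩
  let e : f.normalization.presheaf.stalk t ≃+* Localization.AtPrime (hV.primeIdealOf ⟨t, (htU : t ∈ f.fromNormalization ⁻¹ᵁ U)⟩).asIdeal :=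
    (IsLocalization.algEquiv (hV.primeIdealOf ⟨t, (htU : t ∈ f.fromNormalization ⁻¹ᵁ U)⟩).asIdeal.primeCompl (f.normalization.presheaf.stalk t)
      (Localization.AtPrime (hV.primeIdealOf ⟨t, (htU : t ∈ f.fromNormalization ⁻¹ᵁ U)⟩).asIdeal)).toRingEquiv
  exact ⟨e.toMulEquiv.isDomain _, IsIntegrallyClosed.of_equiv e.symm⟩

end Groth.Agent.NeronHDLib
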