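import Groth.Agent.GrpSchLib.SepPoints
import Groth.Agent.S9435

/-! # Etale neighbourhoods through a prescribed separably algebraic point -/

set_option backward.isDefEq.respectTransparency false
set_option backward.isDefEq.respectTransparency.types false

universe u

open CategoryTheory AlgebraicGeometry TensorProduct

namespace Groth.Agent.NeronHDLib

/-- A separably algebraic point of a standard smooth algebra lifts to a point with values in an
etale algebra. -/
theorem exists_etale_through_point (R A : Type u) [CommRing R] [CommRing A] [Algebra R A]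
    [Algebra.IsStandardSmooth R A] (p : Ideal R) [p.IsPrime]
    (a : A →ₐ[R] SeparableClosure p.ResidueField) :
    ∃ (R' : Type u) (_ : CommRing R') (_ : Algebra R R'), Algebra.Etale R R' ∧
      ∃ P : Ideal R', P.IsPrime ∧ ∃ α : A →ₐ[R] R', P.comap α = RingHom.ker a := by
  classical
  let k := p.ResidueField
  let K := SeparableClosure k
  obtain ⟨ι, σ, _, _, ⟨P⟩⟩ := ‹Algebra.IsStandardSmooth R A›.out
  have : Algebra.IsStandardSmoothOfRelativeDimension P.dimension R A :=
    ⟨ι, σ, inferInstance, inferInstance, P, rfl⟩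
  obtain ⟨g, hg⟩ := Algebra.IsStandardSmoothOfRelativeDimension.exists_etale_mvPolynomial
    (n := P.dimension) R A
  let M := MvPolynomial (Fin P.dimension) R
  let c : Fin P.dimension → K := fun i => a (g (MvPolynomial.X i))
  let L : IntermediateField k K := IntermediateField.adjoin k (Set.range c)
  have : Module.Finite k L := IntermediateField.finiteDimensional_adjoin fun x _ =>
    (Algebra.IsAlgebraic.isAlgebraic x).isIntegral
  obtain ⟨R₁, _, _, _, ψ, hψ⟩ := S9435.result R p L
  -- clear the denominators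
  have hfrac : ∀ i, ∃ y z : R₁, ψ z ≠ 0 ∧ (ψ y : K) = c i * (ψ z : K) := by
    intro i
    have hmem : (⟨c i, IntermediateField.subset_adjoin k _ ⟨i, rfl⟩⟩ : L) ∈
        Subfield.closure (Set.range ψ) := hψ ▸ trivial
    obtain ⟨y, hy, z, hz, hyz⟩ := Subfield.mem_closure_iff.1 hmem
    rw [← ψ.coe_toRingHom, ← RingHom.coe_range, Subring.closure_eq] at hy hz
    obtain ⟨y, rfl⟩ := hy
    obtain ⟨z, rfl⟩ := hz
    by_cases hz0 : ψ z = 0
    · refine ⟨0, 1, by simp, ?_⟩
      have : (⟨c i, IntermediateField.subset_adjoin k _ ⟨i, rfl⟩⟩ : L) = 0 := by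
        rw [← hyz]; simp [hz0]
      have h0 : c i = 0 := congrArg Subtype.val this
      simp [h0]
    · refine ⟨y, z, hz0, ?_⟩
      have h1 : ψ y = (⟨c i, IntermediateField.subset_adjoin k _ ⟨i, rfl⟩⟩ : L) * ψ z :=
        (div_eq_iff hz0).1 hyz
      exact congrArg Subtype.val h1
  choose y z hz hyz using hfrac
  let t : R₁ := ∏ i, z i
  have ht : ψ t ≠ 0 := by
    rw [map_prod]
    exact Finset.prod_ne_zero_iff.2 fun i _ => hz i
  let R₂ := Localization.Away t
  have hunit : ∀ w : Submonoid.powers t, IsUnit ((L.val.restrictScalars R).comp ψ w) := by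
    rintro ⟨_, n, rfl⟩
    rw [map_pow]
    refine IsUnit.pow _ (IsUnit.mk0 _ fun h => ht ?_)
    exact Subtype.ext h
  let ψ₂ : R₂ →ₐ[R] K := IsLocalization.liftAlgHom hunit
  have hψ₂ : ∀ r : R₁, ψ₂ (algebraMap R₁ R₂ r) = (ψ r : K) := fun r => IsLocalization.lift_eq _ r
  have hzu : ∀ i, IsUnit (algebraMap R₁ R₂ (z i)) := fun i =>
    isUnit_of_dvd_unit (map_dvd _ (Finset.dvd_prod_of_mem z (Finset.mem_univ i)))
      (IsLocalization.map_units R₂ (⟨t, Submonoid.mem_powers t⟩ : Submonoid.powers t))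
  let b : Fin P.dimension → R₂ := fun i => algebraMap R₁ R₂ (y i) * ↑(hzu i).unit⁻¹
  have hb : ∀ i, ψ₂ (b i) = c i := by
    intro i
    have h1 : ψ₂ (b i) * ψ₂ (algebraMap R₁ R₂ (z i)) = ψ₂ (algebraMap R₁ R₂ (y i)) := by
      rw [← map_mul, mul_assoc, IsUnit.val_inv_mul, mul_one]
    rw [hψ₂, hψ₂, hyz] at h1
    exact mul_right_cancel₀ (fun h => hz i (Subtype.ext h)) h1
  -- base change the étale map along the coordinates
  let : Algebra M A := g.toRingHom.toAlgebra
  have : IsScalarTower R M A := IsScalarTower.of_algebraMap_eq fun r => (g.commutes r).symm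
  have : Algebra.Etale M A := hg
  let β : M →ₐ[R] R₂ := MvPolynomial.aeval b
  let : Algebra M R₂ := β.toRingHom.toAlgebra
  have : IsScalarTower R M R₂ := IsScalarTower.of_algebraMap_eq fun r => (β.commutes r).symm
  let : Algebra M K := (ψ₂.comp β).toRingHom.toAlgebra
  have : IsScalarTower R M K := IsScalarTower.of_algebraMap_eq fun r => ((ψ₂.comp β).commutes r).symm
  have : Algebra.Etale R R₁ := ‹_›
  have : Algebra.Etale R₁ R₂ := Algebra.Etale.of_isLocalizationAway t
  have : Algebra.Etale R R₂ := Algebra.Etale.comp R R₁ R₂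
  let R₃ := R₂ ⊗[M] A
  have : Algebra.Etale R R₃ := Algebra.Etale.comp R R₂ R₃
  have hga : a.comp g = ψ₂.comp β := MvPolynomial.algHom_ext fun i => by
    show c i = ψ₂ (β (MvPolynomial.X i))
    rw [show β (MvPolynomial.X i) = b i from MvPolynomial.aeval_X b i, hb]
  let χ : R₃ →ₐ[M] K := Algebra.TensorProduct.lift (S := M)
    ({ ψ₂.toRingHom with commutes' := fun _ => rfl } : R₂ →ₐ[M] K)
    ({ a.toRingHom with commutes' := fun m => AlgHom.congr_fun hga m } : A →ₐ[M] K)
    fun _ _ => Commute.all _ _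
  refine ⟨R₃, inferInstance, inferInstance, inferInstance, RingHom.ker χ.toRingHom,
    RingHom.ker_isPrime _,
    (Algebra.TensorProduct.includeRight : A →ₐ[M] R₃).restrictScalars R, ?_⟩
  ext x
  simp only [Ideal.mem_comap, RingHom.mem_ker]
  change χ ((1 : R₂) ⊗ₜ[M] x) = 0 ↔ a x = 0
  refine Iff.of_eq (congrArg (· = 0) ?_)
  refine (Algebra.TensorProduct.lift_tmul _ _ _ _ _).trans ?_
  exact (congrArg (· * a x) ψ₂.map_one).trans (one_mul _)

end Groth.Agent.NeronHDLib
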