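import Groth.Prelude.Def_NonAbH2
import Mathlib.AlgebraicGeometry.Sites.Fpqc
import Mathlib.AlgebraicGeometry.Morphisms.Smooth

/-! # Transfer of an extension property along a pseudo-torsor -/

set_option backward.isDefEq.respectTransparency false
set_option backward.isDefEq.respectTransparency.types false

universe u

open CategoryTheory CategoryTheory.Limits MonoidalCategory CartesianMonoidalCategory AlgebraicGeometry

namespace Groth.Agent.NeronHDLib

variable {S : Scheme.{u}} (S₀ : S.Opens)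

/-- Unique extension of morphisms from the part over `S₀`. -/
def UniqueExt (Z X : Over S) : Prop :=
  (∀ x x' : Z ⟶ X, (Z.hom ⁻¹ᵁ S₀).ι ≫ x.left = (Z.hom ⁻¹ᵁ S₀).ι ≫ x'.left → x = x') ∧
  ∀ y : (Z.hom ⁻¹ᵁ S₀ : Scheme.{u}) ⟶ X.left, y ≫ X.hom = (Z.hom ⁻¹ᵁ S₀).ι ≫ Z.hom →
    ∃ x : Z ⟶ X, (Z.hom ⁻¹ᵁ S₀).ι ≫ x.left = y

theorem bijective_map_iff_uniqueExt (Z X : Over S) :
    Function.Bijective (fun g : Z ⟶ X => (Over.pullback S₀.ι).map g) ↔ UniqueExt S₀ Z X := by
  have hp := (isPullback_morphismRestrict Z.hom S₀).flip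
  let e := hp.isoPullback
  let toY : (((Over.pullback S₀.ι).obj Z) ⟶ (Over.pullback S₀.ι).obj X) →
      ((Z.hom ⁻¹ᵁ S₀ : Scheme.{u}) ⟶ X.left) := fun m => e.hom ≫ m.left ≫ pullback.fst _ _
  have htoY : Function.Injective toY := fun m m' h => by
    have hm : m.left ≫ pullback.snd X.hom S₀.ι = pullback.snd Z.hom S₀.ι := m.w
    have hm' : m'.left ≫ pullback.snd X.hom S₀.ι = pullback.snd Z.hom S₀.ι := m'.w
    exact Over.OverMorphism.ext (pullback.hom_ext ((cancel_epi e.hom).1 h) (hm.trans hm'.symm))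
  have hmap : ∀ g : Z ⟶ X, toY ((Over.pullback S₀.ι).map g) = (Z.hom ⁻¹ᵁ S₀).ι ≫ g.left := by
    intro g
    simp [toY, e, Over.pullback]
  constructor
  · rintro ⟨hi, hs⟩
    refine ⟨fun x x' h => hi (htoY (by rw [hmap, hmap, h])), fun y hy => ?_⟩
    have hc : (e.inv ≫ y) ≫ X.hom = pullback.snd Z.hom S₀.ι ≫ S₀.ι := by
      rw [Category.assoc, hy, ← pullback.condition]
      simp [e]
    obtain ⟨x, hx⟩ := hs (Over.homMk (pullback.lift (e.inv ≫ y) (pullback.snd _ _) hc)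
      (pullback.lift_snd _ _ _) : (Over.pullback S₀.ι).obj Z ⟶ (Over.pullback S₀.ι).obj X)
    refine ⟨x, ?_⟩
    rw [← hmap]
    exact (congrArg toY hx).trans (by simp [toY])
  · rintro ⟨hi, hs⟩
    refine ⟨fun x x' h => hi x x' (by rw [← hmap, ← hmap]; exact congrArg toY h), fun m => ?_⟩
    have hm : m.left ≫ pullback.snd X.hom S₀.ι = pullback.snd Z.hom S₀.ι := m.w
    obtain ⟨x, hx⟩ := hs (toY m) (by
      simp only [toY, Category.assoc, pullback.condition, reassoc_of% hm]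
      rw [← pullback.condition]
      simp [e])
    exact ⟨x, htoY ((hmap x).trans hx)⟩

/-- The property only depends on the functor of points on objects with a morphism to a torsor. -/
theorem UniqueExt.of_equiv {Z X Y : Over S} (F : ∀ T : Over S, (T ⟶ Z) → ((T ⟶ X) ≃ (T ⟶ Y)))
    (hF : ∀ (T T' : Over S) (j : T' ⟶ T) (t : T ⟶ Z) (x : T ⟶ X),
      F T' (j ≫ t) (j ≫ x) = j ≫ F T t x)
    (h : UniqueExt S₀ Z X) : UniqueExt S₀ Z Y := by
  let W : Over S := Over.mk ((Z.hom ⁻¹ᵁ S₀).ι ≫ Z.hom)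
  let j : W ⟶ Z := Over.homMk (Z.hom ⁻¹ᵁ S₀).ι rfl
  refine ⟨fun x x' hxx => ?_, fun y hy => ?_⟩
  · obtain ⟨a, rfl⟩ := (F Z (𝟙 Z)).surjective x
    obtain ⟨a', rfl⟩ := (F Z (𝟙 Z)).surjective x'
    refine congrArg _ (h.1 a a' (congrArg (fun m => m.left)
      (show j ≫ a = j ≫ a' from (F W (j ≫ 𝟙 Z)).injective ?_)))
    rw [hF, hF]
    exact Over.OverMorphism.ext hxx
  · obtain ⟨a, ha⟩ := (F W (j ≫ 𝟙 Z)).surjective (Over.homMk y hy)
    obtain ⟨x, hx⟩ := h.2 a.left a.w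
    refine ⟨F Z (𝟙 Z) x, ?_⟩
    have : j ≫ x = a := Over.OverMorphism.ext hx
    rw [← this, hF] at ha
    exact congrArg (fun m => m.left) ha

/-- Descent of the unique extension property along a flat surjection. -/
theorem UniqueExt.descend {Z' Z X : Over S} (π : Z' ⟶ Z) [Flat π.left] [Surjective π.left]
    [LocallyOfFinitePresentation π.left] (h' : UniqueExt S₀ Z' X)
    (h'' : UniqueExt S₀ (Over.mk (pullback.fst π.left π.left ≫ Z'.hom)) X) :
    UniqueExt S₀ Z X := by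
  set U : Z.left.Opens := Z.hom ⁻¹ᵁ S₀
  have hπ : π.left ⁻¹ᵁ U = Z'.hom ⁻¹ᵁ S₀ := by
    show (π.left ≫ Z.hom) ⁻¹ᵁ S₀ = _
    rw [Over.w π]
  refine ⟨fun x x' hxx => ?_, fun y hy => ?_⟩
  · refine Over.OverMorphism.ext ((cancel_epi π.left).1 (congrArg (fun m => m.left)
      (h'.1 (π ≫ x) (π ≫ x') ?_)))
    rw [← hπ]
    simp only [Over.comp_left, ← morphismRestrict_ι_assoc]
    exact congrArg ((π.left ∣_ U) ≫ ·) hxx
  · have : Flat (π.left ∣_ U) := IsZariskiLocalAtTarget.restrict ‹_› U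
    have : Surjective (π.left ∣_ U) := IsZariskiLocalAtTarget.restrict ‹_› U
    have : LocallyOfFinitePresentation (π.left ∣_ U) := IsZariskiLocalAtTarget.restrict ‹_› U
    let c := Z'.left.homOfLE hπ.ge ≫ (π.left ∣_ U)
    obtain ⟨x', hx'⟩ := h'.2 (c ≫ y) (by
      simp only [c, Category.assoc, hy]
      show _ ≫ (π.left ∣_ U) ≫ U.ι ≫ Z.hom = _
      rw [morphismRestrict_ι_assoc, Scheme.homOfLE_ι_assoc, Over.w π])
    have hx'' : (π.left ⁻¹ᵁ U).ι ≫ x'.left = (π.left ∣_ U) ≫ y := by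
      have := congrArg (Z'.left.homOfLE hπ.le ≫ ·) hx'
      simpa [c] using this
    let P : Over S := Over.mk (pullback.fst π.left π.left ≫ Z'.hom)
    let p₁ : P ⟶ Z' := Over.homMk (pullback.fst π.left π.left) rfl
    let p₂ : P ⟶ Z' := Over.homMk (pullback.snd π.left π.left) (by
      show pullback.snd π.left π.left ≫ Z'.hom = pullback.fst π.left π.left ≫ Z'.hom
      rw [← Over.w π, pullback.condition_assoc])
    have hkey : p₁ ≫ x' = p₂ ≫ x' := h''.1 _ _ (by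
      let O := (pullback.fst π.left π.left ≫ Z'.hom) ⁻¹ᵁ S₀
      have h1 : O ≤ pullback.fst π.left π.left ⁻¹ᵁ (π.left ⁻¹ᵁ U) := by rw [hπ]; rfl
      have h2 : O ≤ pullback.snd π.left π.left ⁻¹ᵁ (π.left ⁻¹ᵁ U) := by
        rw [hπ, ← Scheme.Hom.comp_preimage]
        exact le_of_eq (congrArg (· ⁻¹ᵁ S₀) p₂.w.symm)
      have e1 : ((pullback π.left π.left).homOfLE h1 ≫ pullback.fst π.left π.left ∣_ (π.left ⁻¹ᵁ U)) ≫
          (π.left ∣_ U) = ((pullback π.left π.left).homOfLE h2 ≫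
            pullback.snd π.left π.left ∣_ (π.left ⁻¹ᵁ U)) ≫ (π.left ∣_ U) := by
        rw [← cancel_mono U.ι]
        simp [pullback.condition]
      have a1 : ((pullback π.left π.left).homOfLE h1 ≫
          pullback.fst π.left π.left ∣_ (π.left ⁻¹ᵁ U)) ≫ (π.left ⁻¹ᵁ U).ι =
            O.ι ≫ pullback.fst π.left π.left := by simp
      have a2 : ((pullback π.left π.left).homOfLE h2 ≫
          pullback.snd π.left π.left ∣_ (π.left ⁻¹ᵁ U)) ≫ (π.left ⁻¹ᵁ U).ι =
            O.ι ≫ pullback.snd π.left π.left := by simp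
      show O.ι ≫ pullback.fst π.left π.left ≫ x'.left = O.ι ≫ pullback.snd π.left π.left ≫ x'.left
      rw [← reassoc_of% a1, ← reassoc_of% a2, hx'', reassoc_of% e1])
    obtain ⟨x, hx⟩ : ∃ x : Z.left ⟶ X.left, π.left ≫ x = x'.left := by
      refine ⟨EffectiveEpi.desc π.left x'.left fun {T} g₁ g₂ hg => ?_, EffectiveEpi.fac _ _ _⟩
      have hk : pullback.fst π.left π.left ≫ x'.left = pullback.snd π.left π.left ≫ x'.left :=
        congrArg (fun m => m.left) hkey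
      rw [← pullback.lift_fst g₁ g₂ hg, Category.assoc, hk, pullback.lift_snd_assoc]
    refine ⟨Over.homMk x ((cancel_epi π.left).1 ?_), (cancel_epi (π.left ∣_ U)).1 ?_⟩
    · rw [reassoc_of% hx, Over.w x', Over.w π]
    · show (π.left ∣_ U) ≫ U.ι ≫ x = _
      rw [morphismRestrict_ι_assoc, hx, hx'']

end Groth.Agent.NeronHDLib
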